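import Groth.Agent.Chevalley.TorsorNorm
import Groth.Agent.AlbQuotLib.Albanese
import Groth.Agent.GrpSchLib.KernelGrp
import Groth.Agent.GrpSchLib.HomFlat
import Groth.Agent.GrpSchLib.IdentityComp
import Groth.Agent.GrpSchLib.RedSubgroup
import Groth.Agent.GrpSchLib.PerfectSmooth
import Groth.Agent.GrpSchLib.HomClosedRange
import Groth.Agent.GrpSchLib.HomFinite
import Groth.Agent.GrpQuotLib.Group
import Groth.Agent.H23.MaxAbelian
import Groth.Agent.H23.GeomConn
import Groth.Agent.H23.CubeField
import Groth.Agent.Lib.AVMulN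
import Groth.Agent.LargeNormal.Galois
import Groth.Agent.FpqcDescLib.Group
import Groth.Agent.S7785
import Groth.Agent.S7996
import Groth.Agent.S11994

/-!
An abelian subvariety of an algebraic group has a quasi-complement.
-/

noncomputable section

set_option linter.style.haveILetI false
set_option backward.isDefEq.respectTransparency false
set_option maxHeartbeats 1000000
set_option synthInstance.maxHeartbeats 200000

universe u

open CategoryTheory CategoryTheory.Limits MonoidalCategory CartesianMonoidalCategory AlgebraicGeometry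
open scoped MonObj

namespace Groth.Agent.Chevalley

variable {k : Type u} [Field k] {G A : Over (Spec (CommRingCat.of k))} [GrpObj G] [GrpObj A]
  [Smooth G.hom] [QuasiCompact G.hom] [ConnectedSpace G.left]
  [Smooth A.hom] [IsProper A.hom] [ConnectedSpace A.left]

omit [GrpObj G] [Smooth G.hom] [QuasiCompact G.hom] [ConnectedSpace G.left] in
theorem abVar_props : IsCommMonObj A ∧ GeometricallyIntegral A.hom := by
  haveI : GeometricallyReduced A.hom := TorsorNorm.geometricallyReduced_of_smooth A.hom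
  haveI : GeometricallyConnected A.hom := H23.GeomConn.of_point k A.hom η[A].left (Over.w η[A])
  exact ⟨S7785.result A, H23.MaxAbelian.geometricallyIntegral_of_connected A⟩

/-- An abelian subvariety is central. -/
theorem abSub_central (i : A ⟶ G) [IsMonHom i] {T : Over (Spec (CommRingCat.of k))} (b : T ⟶ A) (g : T ⟶ G) :
    (b ≫ i) * g = g * (b ≫ i) := by
  haveI : GeometricallyReduced A.hom := TorsorNorm.geometricallyReduced_of_smooth A.hom
  haveI : GeometricallyConnected A.hom := H23.GeomConn.of_point k A.hom η[A].left (Over.w η[A])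
  have h := S7996.result k A G ((GrpSchLib.AntiAffine.bijective_appTop_iff A.hom).mpr
    (H23.CubeField.bijective_appTop_of_connected A)) i T b T (𝟙 T) g
  simpa using h

/-- A homomorphism restricting to a power on the abelian subvariety. -/
theorem exists_hom (i : A ⟶ G) [IsMonHom i] [IsClosedImmersion i.left] :
    ∃ (φ : G ⟶ A) (n : ℕ), IsMonHom φ ∧ 0 < n ∧ i ≫ φ = 𝟙 A ^ n := by
  obtain ⟨_, _⟩ := abVar_props (A := A)
  haveI : GeometricallyIntegral G.hom := AlbQuotLib.geometricallyIntegral G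
  haveI : IsIntegral G.left := GeometricallyIntegral.isIntegral_of_subsingleton G.hom
  haveI : IsLocallyNoetherian G.left := LocallyOfFiniteType.isLocallyNoetherian G.hom
  haveI : IsIntegral (A ⊗ G).left := inferInstanceAs (IsIntegral (pullback A.hom G.hom))
  haveI : Mono i := Over.mono_of_mono_left _
  haveI := GrpSchLib.AntiAffine.isSeparated_grp G
  have hnorm : AlgGrp.IsNormalHom i := fun T g b => ⟨b, by rw [← abSub_central i b g, mul_inv_cancel_right]⟩
  obtain ⟨Q, _, q, _, _, _, _, _, -, hk⟩ := GrpQuotLib.exists_quotientGrp i hnorm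
  haveI := GrpSchLib.AntiAffine.isSeparated_grp Q
  let act : A ⊗ G ⟶ G := (fst A G ≫ i) * snd A G
  have hl : ∀ {T : Over (Spec (CommRingCat.of k))} (b : T ⟶ A) (g : T ⟶ G), lift b g ≫ act = (b ≫ i) * g :=
    fun b g => by simp only [act, MonObj.comp_mul, lift_fst_assoc, lift_snd]
  let a : AlgGrp.Action A G :=
    { act := act
      one_act := by
        rw [show (η[A] ▷ G) = lift (fst (𝟙_ _) G ≫ η[A]) (snd (𝟙_ _) G) from
            CartesianMonoidalCategory.hom_ext _ _ (by simp) (by simp), hl, Category.assoc, IsMonHom.one_hom i,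
          toUnit_unique (fst (𝟙_ _) G) (toUnit _), ← Hom.one_def, _root_.one_mul, leftUnitor_hom]
      mul_act := by
        have h2 : (α_ A A G).hom ≫ (A ◁ act) = lift (fst (A ⊗ A) G ≫ fst A A)
            ((fst (A ⊗ A) G ≫ snd A A ≫ i) * snd (A ⊗ A) G) := by
          apply CartesianMonoidalCategory.hom_ext <;>
            simp [act, MonObj.comp_mul]
        rw [← Category.assoc (α_ A A G).hom, h2, hl]
        simp only [act, MonObj.comp_mul, whiskerRight_fst_assoc, whiskerRight_snd, IsMonHom.mul_hom i,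
          Category.assoc, ← _root_.mul_assoc]
        congr 1
        rw [show (i ⊗ₘ i) ≫ μ[G] = (fst A A ≫ i) * (snd A A ≫ i) by
          rw [Hom.mul_def, ← lift_map, lift_fst_snd, Category.id_comp], MonObj.comp_mul] }
  have hinv : a.act ≫ q = snd A G ≫ q := by
    show act ≫ q = _
    simp only [act, MonObj.mul_comp, Category.assoc, hk.w, ← Hom.one_def, MonObj.comp_one, _root_.one_mul]
  have htors : IsIso (pullback.lift a.act (snd A G) hinv) := by
    let d := hk.lift (pullback.fst q q * (pullback.snd q q)⁻¹) (toUnit _) (by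
      rw [MonObj.mul_comp, GrpObj.inv_comp, pullback.condition, mul_inv_cancel, Hom.one_def])
    refine ⟨lift d (pullback.snd q q), ?_, ?_⟩
    · apply CartesianMonoidalCategory.hom_ext
      · rw [← cancel_mono i]
        simp only [Category.assoc, lift_fst_assoc, Category.id_comp, d, hk.lift_fst, MonObj.comp_mul, GrpObj.comp_inv,
          pullback.lift_fst, pullback.lift_snd]
        show act * (snd A G)⁻¹ = _
        rw [mul_inv_cancel_right]
      · simp
    · refine pullback.hom_ext ?_ ?_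
      · rw [Category.assoc, pullback.lift_fst, Category.id_comp]
        show lift d _ ≫ act = _
        rw [hl, hk.lift_fst, inv_mul_cancel_right]
      · simp
  obtain ⟨ψ, n, hn, hψ⟩ := TorsorNorm.exists_map a q hinv htors
  let φ := ψ * (toUnit G ≫ η[G] ≫ ψ)⁻¹
  have hφ1 : η[G] ≫ φ = η[A] := by
    show η[G] ≫ (_ * _) = _
    rw [MonObj.comp_mul, GrpObj.comp_inv, ← Category.assoc η[G] (toUnit G), toUnit_unique (η[G] ≫ toUnit G) (𝟙 _),
      Category.id_comp, mul_inv_cancel, MonObj.one_eq_one]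
  have hm : IsMonHom φ := S11994.result k G A φ hφ1
  refine ⟨φ, n, hm, hn, ?_⟩
  have h1 := hψ A (𝟙 A) (toUnit A ≫ η[G])
  rw [← Category.assoc, show lift (𝟙 A) (toUnit A ≫ η[G]) ≫ a.act = i by
    show _ ≫ act = i
    rw [hl, Category.id_comp, show toUnit A ≫ η[G] = 1 from Hom.one_def.symm, _root_.mul_one]] at h1
  show i ≫ (_ * _) = _
  rw [MonObj.comp_mul, GrpObj.comp_inv, h1, ← Category.assoc i (toUnit G), toUnit_unique (i ≫ toUnit G) (toUnit A),
    Category.assoc, mul_comm (toUnit A ≫ η[G] ≫ ψ), mul_inv_cancel_right]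

variable (i : A ⟶ G) [IsMonHom i]

omit [QuasiCompact G.hom] in
theorem isMonHom_mul {N : Over (Spec (CommRingCat.of k))} [GrpObj N] (h : N ⟶ G) [IsMonHom h] [QuasiCompact G.hom] :
    IsMonHom ((i ⊗ₘ h) ≫ μ[G]) := by
  refine LargeNormal.isMonHom_of_mul _ fun T x y => ?_
  have e : ∀ z : T ⟶ A ⊗ N, z ≫ (i ⊗ₘ h) ≫ μ[G] = (z ≫ fst A N ≫ i) * (z ≫ snd A N ≫ h) := fun z => by
    rw [Hom.mul_def, ← Category.assoc z (fst A N) i, ← Category.assoc z (snd A N) h, ← lift_map, Category.assoc,
      show lift (z ≫ fst A N) (z ≫ snd A N) = z by rw [← comp_lift, lift_fst_snd, Category.comp_id]]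
  have hf : (x * y) ≫ fst A N = (x ≫ fst A N) * (y ≫ fst A N) := MonObj.mul_comp x y (fst A N)
  have hs : (x * y) ≫ snd A N = (x ≫ snd A N) * (y ≫ snd A N) := MonObj.mul_comp x y (snd A N)
  rw [e, e, e, ← Category.assoc, hf, ← Category.assoc (x * y), hs, MonObj.mul_comp, MonObj.mul_comp]
  simp only [Category.assoc]
  have c : (y ≫ fst A N ≫ i) * (x ≫ snd A N ≫ h) = (x ≫ snd A N ≫ h) * (y ≫ fst A N ≫ i) := by
    simpa only [Category.assoc] using abSub_central i (y ≫ fst A N) (x ≫ snd A N ≫ h)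
  rw [_root_.mul_assoc, ← _root_.mul_assoc (y ≫ fst A N ≫ i), c]
  simp only [_root_.mul_assoc]

/-- Surjectivity of the product with the kernel, or with any subgroup covering it. -/
theorem surjective_mul_kernel {φ : G ⟶ A} [IsMonHom φ] {n : ℕ} (hn : 0 < n) (hφ : i ≫ φ = 𝟙 A ^ n)
    {K : Over (Spec (CommRingCat.of k))} [GrpObj K] {κ : K ⟶ G} (hk : AlgGrp.IsKernel κ φ)
    {N : Over (Spec (CommRingCat.of k))} (r : N ⟶ K) [Surjective r.left] :
    Surjective ((i ⊗ₘ (r ≫ κ)) ≫ μ[G]).left := by
  obtain ⟨_, _⟩ := abVar_props (A := A)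
  haveI : Surjective (𝟙 A ^ n : A ⟶ A).left := AVMulN.surjective_pow n hn
  let P : Over (Spec (CommRingCat.of k)) := Over.mk (pullback.snd (𝟙 A ^ n : A ⟶ A).left φ.left ≫ G.hom)
  let x : P ⟶ G := Over.homMk (pullback.snd _ _) rfl
  let b : P ⟶ A := Over.homMk (pullback.fst (𝟙 A ^ n : A ⟶ A).left φ.left) (by
    show _ = pullback.snd (𝟙 A ^ n : A ⟶ A).left φ.left ≫ G.hom
    rw [← Over.w φ, ← pullback.condition_assoc, Over.w (𝟙 A ^ n : A ⟶ A)])
  have hbx : b ≫ (𝟙 A ^ n : A ⟶ A) = x ≫ φ := Over.OverMorphism.ext pullback.condition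
  let z := hk.lift ((b ≫ i)⁻¹ * x) (toUnit P) (by
    rw [MonObj.mul_comp, GrpObj.inv_comp, Category.assoc, hφ, hbx, inv_mul_cancel, Hom.one_def])
  have hz : lift b z ≫ (i ⊗ₘ κ) ≫ μ[G] = x := by
    rw [← Category.assoc, lift_map, ← Hom.mul_def, hk.lift_fst, mul_inv_cancel_left]
  haveI : Surjective ((i ⊗ₘ κ) ≫ μ[G]).left := by
    haveI : Surjective ((lift b z).left ≫ ((i ⊗ₘ κ) ≫ μ[G]).left) := by
      rw [← Over.comp_left, hz]
      exact inferInstanceAs (Surjective (pullback.snd (𝟙 A ^ n : A ⟶ A).left φ.left))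
    exact Surjective.of_comp (lift b z).left ((i ⊗ₘ κ) ≫ μ[G]).left
  have hfac : (i ⊗ₘ (r ≫ κ)) ≫ μ[G] = (A ◁ r) ≫ (i ⊗ₘ κ) ≫ μ[G] := by
    have e : A ◁ r = 𝟙 A ⊗ₘ r := (MonoidalCategory.id_tensorHom A r).symm
    rw [e, MonoidalCategory.tensorHom_comp_tensorHom_assoc, Category.id_comp]
  haveI : Surjective (A ◁ r).left :=
    MorphismProperty.of_isPullback (P := @Surjective) ((FpqcDescLib.isPullback_whiskerLeft r A).map (Over.forget _)).flip ‹_›
  rw [hfac, Over.comp_left]
  infer_instance

/-- The product with a subgroup covering the kernel is faithfully flat when surjective. -/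
theorem flat_mul {N : Over (Spec (CommRingCat.of k))} [GrpObj N] (h : N ⟶ G) [IsMonHom h] [IsClosedImmersion h.left]
    [Surjective ((i ⊗ₘ h) ≫ μ[G]).left] : Flat ((i ⊗ₘ h) ≫ μ[G]).left := by
  haveI := isMonHom_mul i h
  haveI : LocallyOfFiniteType N.hom := by rw [← Over.w h]; infer_instance
  haveI : QuasiCompact N.hom := by rw [← Over.w h]; infer_instance
  haveI : LocallyOfFiniteType (A ⊗ N).hom := inferInstanceAs (LocallyOfFiniteType (pullback.fst A.hom N.hom ≫ A.hom))
  haveI : QuasiCompact (A ⊗ N).hom := inferInstanceAs (QuasiCompact (pullback.fst A.hom N.hom ≫ A.hom))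
  haveI : IsReduced G.left := GrpSchLib.isReduced_of_smooth_field G.hom
  haveI : IsSeparated G.hom := GrpSchLib.AntiAffine.isSeparated_grp G
  haveI : QuasiCompact (((i ⊗ₘ h) ≫ μ[G]).left ≫ G.hom) := by rw [Over.w]; infer_instance
  haveI : QuasiCompact ((i ⊗ₘ h) ≫ μ[G]).left := QuasiCompact.of_comp _ G.hom
  exact GrpSchLib.flat_of_surjective_hom ((i ⊗ₘ h) ≫ μ[G])

/-- The intersection with a subgroup of the kernel is finite. -/
theorem isFinite_inter [IsClosedImmersion i.left] {φ : G ⟶ A} [IsMonHom φ] {n : ℕ} (hn : 0 < n)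
    (hφ : i ≫ φ = 𝟙 A ^ n) {N : Over (Spec (CommRingCat.of k))} (h : N ⟶ G) (hN : h ≫ φ = 1) [IsClosedImmersion h.left] :
    IsFinite (pullback.fst i.left h.left ≫ A.hom) := by
  obtain ⟨_, _⟩ := abVar_props (A := A)
  haveI : IsFinite (𝟙 A ^ n : A ⟶ A).left := AVMulN.isFinite_pow n hn
  let f := (𝟙 A ^ n : A ⟶ A).left
  let Kn := pullback f η[A].left
  have hw : pullback.fst i.left h.left ≫ f = (pullback.fst i.left h.left ≫ A.hom) ≫ η[A].left := by
    have h1 : i.left ≫ φ.left = f := by rw [← Over.comp_left, hφ]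
    have h2 : h.left ≫ φ.left = N.hom ≫ η[A].left := by rw [← Over.comp_left, hN]; rfl
    rw [← h1, pullback.condition_assoc, h2, ← Category.assoc]
    congr 1
    rw [← Over.w h, ← pullback.condition_assoc, Over.w i]
  let l : pullback i.left h.left ⟶ Kn := pullback.lift (pullback.fst i.left h.left) (pullback.fst i.left h.left ≫ A.hom) hw
  haveI : IsClosedImmersion (l ≫ pullback.fst f η[A].left) := by rw [pullback.lift_fst]; infer_instance
  haveI : IsSeparated (pullback.fst f η[A].left) := by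
    haveI : IsSeparated A.hom := inferInstance
    haveI : IsClosedImmersion η[A].left := by
      haveI : IsClosedImmersion (η[A].left ≫ A.hom) := by
        rw [Over.w η[A]]; exact inferInstanceAs (IsClosedImmersion (𝟙 _))
      exact IsClosedImmersion.of_comp η[A].left A.hom
    infer_instance
  haveI : IsClosedImmersion l := IsClosedImmersion.of_comp l (pullback.fst f η[A].left)
  rw [← pullback.lift_snd (pullback.fst i.left h.left) (pullback.fst i.left h.left ≫ A.hom) hw]
  show IsFinite (l ≫ pullback.snd f η[A].left)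
  exact inferInstance

/-- The reduced kernel covers the kernel, and is smooth and normal. -/
theorem exists_red_kernel [PerfectField k] (φ : G ⟶ A) [IsMonHom φ] {K : Over (Spec (CommRingCat.of k))} [GrpObj K]
    (κ : K ⟶ G) [IsMonHom κ] [IsClosedImmersion κ.left] (hk : AlgGrp.IsKernel κ φ) :
    ∃ (N : Over (Spec (CommRingCat.of k))) (_ : GrpObj N) (r : N ⟶ K), IsMonHom r ∧ IsClosedImmersion r.left ∧
      Surjective r.left ∧ Smooth N.hom ∧ AlgGrp.IsNormalHom (r ≫ κ) := by
  haveI : LocallyOfFiniteType K.hom := by rw [← Over.w κ]; infer_instance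
  haveI : QuasiCompact K.hom := by rw [← Over.w κ]; infer_instance
  obtain ⟨N, _, r, hr, hrc, hNr, hrs, hNl, hNq⟩ := GrpSchLib.RedSubgroup.exists_redSubgroup K
  haveI := hr; haveI := hrc; haveI := hNr; haveI := hNl
  haveI : Smooth N.hom := GrpSchLib.smooth_of_perfectField_of_isReduced N
  refine ⟨N, inferInstance, r, hr, hrc, hrs, inferInstance, fun T g x => ?_⟩
  haveI : Smooth (G ⊗ N).hom := inferInstanceAs (Smooth (pullback.fst G.hom N.hom ≫ G.hom))
  haveI : IsReduced (G ⊗ N).left := GrpSchLib.isReduced_of_smooth_field (G ⊗ N).hom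
  let c : G ⊗ N ⟶ G := fst G N * (snd G N ≫ r ≫ κ) * (fst G N)⁻¹
  let c' := hk.lift c (toUnit _) (by
    simp only [c, MonObj.mul_comp, GrpObj.inv_comp, Category.assoc, hk.w, ← Hom.one_def, MonObj.comp_one,
      _root_.mul_one, mul_inv_cancel])
  obtain ⟨d, hd⟩ := H23.RedSub.exists_lift_closed c'.left r.left (by
    rw [r.left.surjective.range_eq]; exact Set.subset_univ _)
  let d' : G ⊗ N ⟶ N := Over.homMk d (by rw [← Over.w r, reassoc_of% hd, Over.w c'])
  have hd' : d' ≫ r = c' := Over.OverMorphism.ext hd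
  refine ⟨lift g x ≫ d', ?_⟩
  rw [Category.assoc, ← Category.assoc d' r κ, hd', hk.lift_fst]
  simp only [c, MonObj.comp_mul, GrpObj.comp_inv, lift_fst, lift_snd_assoc]

end Groth.Agent.Chevalley
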