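import Groth.Agent.GrpSchLib.FixedAffine
import Groth.Agent.GrpSchLib.ImageFactor
import Groth.Agent.S7982

/-!
An algebraic group with a fixed point in an action faithful on rational points is affine.
-/


set_option maxHeartbeats 1600000

universe u

open CategoryTheory Limits AlgebraicGeometry MonoidalCategory CartesianMonoidalCategory MonObj GrpObj
open scoped TensorProduct

namespace Groth.Agent.Chevalley

open GrpSchLib GrpSchLib.FixedAffine GrpSchLib.Kunneth GrpSchLib.LineGroups

variable {k : Type u} [Field k]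

theorem isAffine_of_subsingleton (X : Scheme.{u}) [Subsingleton X] [Nonempty X] : IsAffine X := by
  obtain ⟨U, hU, hx, -⟩ := exists_isAffineOpen_mem_and_subset
    (show (Classical.arbitrary X) ∈ (⊤ : X.Opens) from trivial)
  obtain rfl : U = ⊤ := eq_top_iff.mpr fun y _ => (Subsingleton.elim _ y) ▸ hx
  haveI : IsAffine ((⊤ : X.Opens) : Scheme.{u}) := hU
  exact IsAffine.of_isIso X.topIso.inv

/-- A group with a single rational point is affine. -/
theorem isAffine_of_unique_point [IsAlgClosed k] (K : Over (Spec (CommRingCat.of k))) [GrpObj K]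
    [LocallyOfFiniteType K.hom] (h : ∀ g : 𝟙_ (Over (Spec (CommRingCat.of k))) ⟶ K, g = η[K]) : IsAffine K.left := by
  haveI : JacobsonSpace K.left := LocallyOfFiniteType.jacobsonSpace K.hom
  let e := (η[K] : 𝟙_ (Over (Spec (CommRingCat.of k))) ⟶ K).left (IsLocalRing.closedPoint k)
  have hall : ∀ x ∈ closedPoints K.left, x = e := fun x hx => by
    let g : 𝟙_ (Over (Spec (CommRingCat.of k))) ⟶ K :=
      Over.homMk (pointOfClosedPoint K.hom x hx) (pointOfClosedPoint_comp K.hom x hx)
    have hg : g.left (IsLocalRing.closedPoint k) = x := pointOfClosedPoint_apply ..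
    rw [← hg, h g]
  haveI : Nonempty K.left := ⟨e⟩
  have hd : closure (closedPoints K.left) = Set.univ := closure_closedPoints
  obtain ⟨c, hc⟩ : (closedPoints K.left).Nonempty := by
    by_contra hne
    rw [Set.not_nonempty_iff_eq_empty.mp hne, closure_empty] at hd
    exact Set.empty_ne_univ hd
  have he : IsClosed ({e} : Set K.left) := hall c hc ▸ hc
  have huniv : (Set.univ : Set K.left) ⊆ {e} := hd ▸ closure_minimal hall he
  haveI : Subsingleton K.left := ⟨fun a b => (huniv (Set.mem_univ a)).trans (huniv (Set.mem_univ b)).symm⟩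
  exact isAffine_of_subsingleton K.left

variable {G X : Over (Spec (CommRingCat.of k))} [GrpObj G] [QuasiCompact G.hom] [LocallyOfFiniteType G.hom]
  [IsSeparated X.hom] [IsIntegral X.left] [IsLocallyNoetherian X.left]

/-- A group acting faithfully on rational points with a fixed point is affine. -/
theorem isAffine_of_fixedPt [IsAlgClosed k] (a : AlgGrp.Action G X) (x : 𝟙_ (Over (Spec (CommRingCat.of k))) ⟶ X)
    (hx : a.IsFixedPt x)
    (hfaith : ∀ g : 𝟙_ (Over (Spec (CommRingCat.of k))) ⟶ G, lift (toUnit X ≫ g) (𝟙 X) ≫ a.act = 𝟙 X → g = η[G]) :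
    IsAffine G.left := by
  classical
  haveI := AntiAffine.isSeparated_grp G
  obtain ⟨D⟩ := Adjoint.exists_nbhds' X x
  choose b hb using exists_action a x hx D
  choose d M w hM hfix hconv using fun p : (Σ m, Fn (D.N m)) => ActRep.exists_stable (b p.1) p.2
  obtain ⟨F, hF⟩ := RepFamily.exists_detect (G := G) M
  obtain ⟨N₀, B, hB, hBiff⟩ := RepFamily.exists_block M hM F
  let H : Over (Spec (CommRingCat.of k)) := FrB.GLn N₀ (Spec (CommRingCat.of k))
  haveI : IsAffine (FrB.GLZ.{u} N₀).left := inferInstanceAs (IsAffine (Spec _))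
  haveI : IsAffineHom (FrB.GLZ.{u} N₀).hom := inferInstance
  haveI : IsAffineHom H.hom := inferInstanceAs (IsAffineHom (pullback.snd _ _))
  haveI : IsAffine H.left := isAffine_of_isAffineHom H.hom
  haveI : LocallyOfFiniteType (FrB.GLZ.{u} N₀).hom := by
    refine (HasRingHomProperty.Spec_iff (P := @LocallyOfFiniteType)).mpr ?_
    refine RingHom.finiteType_algebraMap.mpr ?_
    have h : Algebra.FiniteType (ULift.{u} ℤ) (MvPolynomial (CoordGrp.GLPoly.Idx N₀) (ULift.{u} ℤ)) := inferInstance
    exact @Algebra.FiniteType.of_surjective _ _ _ _ _ _ _ _ h (CoordGrp.GLn.mk N₀ (ULift.{u} ℤ))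
      Ideal.Quotient.mk_surjective
  haveI : LocallyOfFiniteType H.hom := inferInstanceAs (LocallyOfFiniteType (pullback.snd _ _))
  haveI : QuasiCompact H.hom := inferInstance
  haveI : IsSeparated H.hom := inferInstance
  let ρ : G ⟶ H := hB.hom
  haveI : IsMonHom ρ := hB.isMonHom_hom
  -- points of trivial matrix act trivially
  have htriv : ∀ (R : Over (Spec (CommRingCat.of k))) (g : R ⟶ G), IsAffine R.left → B.map (ev g) = 1 →
      ∀ (T' : Over (Spec (CommRingCat.of k))) (t : T' ⟶ R) (y : T' ⟶ X), lift (t ≫ g) y ≫ a.act = y := by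
    intro R g _ hg
    have hall := hF R g ((hBiff R g).mp hg)
    have hact : ∀ m, (g ▷ D.N m) ≫ (b m).act = snd R (D.N m) := fun m => by
      refine ext_ev (AlgHom.ext fun f => ?_)
      rw [show g ▷ D.N m = lift (fst R (D.N m) ≫ g) (snd R (D.N m)) from
        CartesianMonoidalCategory.hom_ext _ _ (by simp) (by simp)]
      refine hfix ⟨m, f⟩ _ (fst R (D.N m) ≫ g) (snd R (D.N m)) ?_
      have h3 := congrArg (fun A : Matrix _ _ (Fn R) => A.map (ev (fst R (D.N m)))) (hall ⟨m, f⟩)
      simp only [Matrix.map_map, Matrix.map_one _ (map_zero (ev (fst R (D.N m)))) (map_one (ev (fst R (D.N m))))] at h3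
      exact h3
    have hU : (R ◁ D.uι) ≫ (g ▷ X) ≫ a.act = (R ◁ D.uι) ≫ snd R X := by
      refine (cancel_epi (β_ D.U R).hom).mp (InfNbhdEq.eq_of_joint D.j D.dense _ _ fun m => ?_)
      have h1 := congrArg (· ≫ D.j m ≫ D.uι) (hact m)
      simp only [Category.assoc, hb] at h1
      have e : (D.j m ▷ R) ≫ (β_ D.U R).hom = (β_ (D.N m) R).hom ≫ (R ◁ D.j m) :=
        BraidedCategory.braiding_naturality_left _ _
      rw [reassoc_of% e, reassoc_of% e, ← MonoidalCategory.whiskerLeft_comp_assoc,
        ← MonoidalCategory.whiskerLeft_comp_assoc, whisker_exchange_assoc, whiskerLeft_snd, h1]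
    haveI : IsSchemeTheoreticallyDominant (R ◁ D.uι).left := by
      haveI : Nonempty D.U.left := ⟨D.u₀.left (IsLocalRing.closedPoint k)⟩
      haveI : IsDominant D.uι.left :=
        ⟨D.uι.left.isOpenEmbedding.isOpen_range.dense (Set.range_nonempty _)⟩
      haveI : IsSchemeTheoreticallyDominant D.uι.left := .of_isDominant _
      haveI : Flat R.hom := inferInstance
      haveI : Flat (snd R X).left := inferInstanceAs (Flat (pullback.snd R.hom X.hom))
      exact IsSchemeTheoreticallyDominant.of_isPullback (isPullback_whiskerLeft (W := R) D.uι).flip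
    have hX := eq_of_dominant (R ◁ D.uι) _ _ hU
    intro T' t y
    have h4 := congrArg (lift t y ≫ ·) hX
    simp only [lift_snd] at h4
    rwa [← Category.assoc, lift_whiskerRight] at h4
  obtain ⟨K, _, κ, _, _, -, hk⟩ := GrpSchLib.exists_kernel ρ
  haveI : LocallyOfFiniteType K.hom := by rw [← Over.w κ]; infer_instance
  haveI : QuasiCompact K.hom := by rw [← Over.w κ]; infer_instance
  haveI : Mono κ := Over.mono_of_mono_left _
  have hKa : IsAffine K.left := isAffine_of_unique_point K fun g => by
    have h3 : (g ≫ κ) ≫ matPt B hB.isUnit = 1 := by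
      show (g ≫ κ) ≫ ρ = 1
      rw [Category.assoc, hk.w, toUnit_unique (toUnit K) _, ← Category.assoc, toUnit_unique (g ≫ toUnit K) (toUnit _)]
      exact Hom.one_def.symm
    rw [comp_matPt] at h3
    haveI : IsAffine (𝟙_ (Over (Spec (CommRingCat.of k)))).left := inferInstanceAs (IsAffine (Spec _))
    have h4 := htriv _ (g ≫ κ) inferInstance (matPt_injective (hN := isUnit_one) (h3.trans matPt_one.symm)) X
      (toUnit X) (𝟙 X)
    rw [← cancel_mono κ, IsMonHom.one_hom κ]
    exact hfaith _ h4
  obtain ⟨I, _, p, j, hp, hj, hpj, hjc, hfl, hs, hIl, hIq⟩ := ImageFactor.exists_image ρ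
  haveI := hp; haveI := hjc; haveI := hfl; haveI := hs; haveI := hIl; haveI := hIq
  haveI : Mono j := Over.mono_of_mono_left _
  have hI : IsAffine I.left := isAffine_of_isAffineHom j.left
  have hk' : AlgGrp.IsKernel κ p := by
    have hη : η[I] ≫ j = η[H] := IsMonHom.one_hom j
    have hw : κ ≫ p = toUnit K ≫ η[I] := by
      rw [← cancel_mono j, Category.assoc, hpj, hk.w, Category.assoc, hη]
    refine ⟨⟨hw⟩, ⟨PullbackCone.IsLimit.mk hw (fun c => hk.lift c.fst c.snd (by
      rw [← hpj, reassoc_of% c.condition, hη])) (fun c => hk.lift_fst _ _ _) (fun c => hk.lift_snd _ _ _)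
      (fun c m h1 h2 => by rw [← cancel_mono κ, h1, hk.lift_fst])⟩⟩
  exact (S7982.result k K G I κ p hk').1 hKa hI

end Groth.Agent.Chevalley
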