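import Groth.Agent.AVSplitLib.QuasiSection
import Groth.Agent.AVSplitLib.Retraction
import Groth.Prelude.Def_AlgGrp
import Groth.Agent.GrpSchLib.SmoothReduced
import Mathlib.FieldTheory.IntermediateField.Adjoin.Basic

/-!
The norm of a closed point of a fibre gives a map of a torsor under an abelian variety to the group.
-/

noncomputable section

universe u

set_option linter.style.haveILetI false
set_option linter.unusedSectionVars false
set_option backward.isDefEq.respectTransparency false
set_option backward.isDefEq.respectTransparency.types false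
set_option maxHeartbeats 1000000
set_option synthInstance.maxHeartbeats 200000

open CategoryTheory CategoryTheory.Limits MonoidalCategory CartesianMonoidalCategory AlgebraicGeometry IntermediateField
open scoped MonObj

namespace Groth.Agent.Chevalley.TorsorNorm

open Groth.Agent Groth.Agent.AVFrobLib Groth.Agent.AVSplitLib

variable {k : Type u} [Field k]

/-- A closed point of a non-empty fibre. -/
theorem exists_fibre_pt {X Y : Over (Spec (CommRingCat.of k))} [LocallyOfFiniteType X.hom] [QuasiCompact X.hom]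
    [IsSeparated Y.hom] (f : X ⟶ Y) (F : CommRingCat.{u}) (hF : IsField F) (y : Spec F ⟶ Y.left)
    (hy : ∃ x : X.left, ∀ p, f.left x = y p) :
    ∃ (E : Type u) (_ : Field E) (i : F ⟶ CommRingCat.of E), i.hom.Finite ∧
      ∃ s : Spec (CommRingCat.of E) ⟶ X.left, s ≫ f.left = Spec.map i ≫ y := by
  letI := hF.toField
  haveI : LocallyOfFiniteType (f.left ≫ Y.hom) := by rw [Over.w f]; infer_instance
  haveI : LocallyOfFiniteType f.left := locallyOfFiniteType_of_comp f.left Y.hom
  haveI : QuasiCompact (f.left ≫ Y.hom) := by rw [Over.w f]; infer_instance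
  haveI : QuasiCompact f.left := QuasiCompact.of_comp f.left Y.hom
  let P := pullback f.left y
  haveI : Nonempty P := by
    obtain ⟨x, hx⟩ := hy
    obtain ⟨z, -⟩ := Scheme.Pullback.exists_preimage_pullback (f := f.left) (g := y) x
      (IsLocalRing.closedPoint F) (hx _)
    exact ⟨z⟩
  haveI : CompactSpace P := QuasiCompact.compactSpace_of_compactSpace (pullback.snd f.left y)
  obtain ⟨c, -, hc⟩ := IsClosed.exists_closed_singleton (X := P) isClosed_univ Set.univ_nonempty
  let q := P.fromSpecResidueField c ≫ pullback.snd f.left y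
  have hq : IsFinite q := by
    haveI : IsClosedImmersion (P.fromSpecResidueField c) := isClosed_singleton_iff_isClosedImmersion.1 hc
    rw [isFinite_iff_locallyOfFiniteType_of_jacobsonSpace]
    infer_instance
  obtain ⟨i, hi⟩ := Spec.map_surjective q
  refine ⟨P.residueField c, inferInstance, i, ?_, P.fromSpecResidueField c ≫ pullback.fst f.left y, ?_⟩
  · rw [← hi] at hq
    exact (IsFinite.SpecMap_iff i).1 hq
  · show _ = Spec.map i ≫ y
    rw [hi, Category.assoc, pullback.condition, Category.assoc]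

section Field

variable {K F E : Type u} [Field K] [Field F] [Field E] [Algebra K F] [Algebra K E] [FiniteDimensional K E]

/-- A finite extension of `F` receiving all conjugates of `E`, compatibly with every algebraically closed field. -/
theorem exists_splitting : ∃ (E' : Type u) (_ : Field E') (_ : Algebra F E') (_ : FiniteDimensional F E')
    (_ : Algebra K E') (_ : IsScalarTower K F E'),
    ∀ (Ω : Type u) [Field Ω] [IsAlgClosed Ω] [Algebra K Ω] [Algebra F Ω] [IsScalarTower K F Ω] (σ : E' →ₐ[F] Ω),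
      Function.Bijective fun ρ : E →ₐ[K] E' => (σ.restrictScalars K).comp ρ := by
  classical
  let Ω₀ := AlgebraicClosure F
  let b := Module.finBasis K E
  let s : Finset Ω₀ := Finset.univ.biUnion fun i => ((minpoly K (b i)).aroots Ω₀).toFinset
  let E' : IntermediateField F Ω₀ := IntermediateField.adjoin F (s : Set Ω₀)
  haveI : FiniteDimensional F E' := IntermediateField.finiteDimensional_adjoin fun x _ => Algebra.IsIntegral.isIntegral x
  haveI : IsScalarTower K E' Ω₀ := IsScalarTower.of_algebraMap_eq fun r => (IsScalarTower.algebraMap_apply K F Ω₀ r).trans rfl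
  refine ⟨E', inferInstance, inferInstance, inferInstance, inferInstance, inferInstance, fun Ω _ _ _ _ _ σ => ⟨?_, ?_⟩⟩
  · exact fun ρ ρ' h => AlgHom.ext fun e => σ.injective congr($h e)
  intro τ
  have hb : ∀ i, τ (b i) ∈ (σ.restrictScalars K).range := fun i => by
    have hsp0 : ((minpoly K (b i)).map (algebraMap K Ω₀)).Splits := IsAlgClosed.splits _
    have hsp : ((minpoly K (b i)).map (algebraMap K E')).Splits := by
      refine Polynomial.Splits.of_splits_map (i := (algebraMap E' Ω₀)) ?_ fun a ha => ?_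
      · rw [Polynomial.map_map, ← IsScalarTower.algebraMap_eq]; exact hsp0
      · rw [Polynomial.map_map, ← IsScalarTower.algebraMap_eq] at ha
        refine ⟨⟨a, IntermediateField.subset_adjoin F _ ?_⟩, rfl⟩
        exact Finset.mem_biUnion.mpr ⟨i, Finset.mem_univ _, Multiset.mem_toFinset.mpr ha⟩
    obtain ⟨v, hv⟩ := hsp.mem_range_of_isRoot (i := σ.toRingHom) (x := τ (b i))
      (Polynomial.map_ne_zero (minpoly.ne_zero (Algebra.IsIntegral.isIntegral _)))
      (by rw [Polynomial.IsRoot, Polynomial.eval_map, Polynomial.eval₂_map,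
          show σ.toRingHom.comp (algebraMap K E') = algebraMap K Ω from (σ.restrictScalars K).comp_algebraMap,
          ← Polynomial.aeval_def, Polynomial.aeval_algHom_apply, minpoly.aeval, map_zero])
    exact ⟨v, hv⟩
  have hall : ∀ e, τ e ∈ (σ.restrictScalars K).range := fun e => by
    rw [← b.sum_repr e, map_sum]
    refine Subalgebra.sum_mem _ fun i _ => ?_
    rw [map_smul]
    exact Subalgebra.smul_mem _ (hb i) _
  let e₀ := AlgEquiv.ofInjectiveField (σ.restrictScalars K)
  exact ⟨(e₀.symm : (σ.restrictScalars K).range →ₐ[K] E').comp (τ.codRestrict _ hall),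
    AlgHom.ext fun e => congrArg Subtype.val (e₀.apply_symm_apply _)⟩

/-- The number of embeddings does not depend on the algebraically closed field. -/
theorem card_hom (Ω : Type u) [Field Ω] [IsAlgClosed Ω] [Algebra K Ω] :
    Fintype.card (E →ₐ[K] Ω) = Fintype.card (E →ₐ[K] AlgebraicClosure K) := by
  classical
  let c : AlgebraicClosure K →ₐ[K] Ω := IsAlgClosed.lift
  refine (Fintype.card_of_bijective (f := fun σ : E →ₐ[K] AlgebraicClosure K => c.comp σ) ⟨fun σ σ' h =>
    AlgHom.ext fun e => c.injective congr($h e), fun σ => ?_⟩).symm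
  have hall : ∀ e, σ e ∈ c.range := fun e => by
    obtain ⟨v, hv⟩ := (IsAlgClosed.splits ((minpoly K e).map (algebraMap K (AlgebraicClosure K)))).mem_range_of_isRoot
      (i := c.toRingHom) (x := σ e) (Polynomial.map_ne_zero (minpoly.ne_zero (Algebra.IsIntegral.isIntegral e)))
      (by rw [Polynomial.IsRoot, Polynomial.eval_map, Polynomial.eval₂_map,
          show c.toRingHom.comp (algebraMap K (AlgebraicClosure K)) = algebraMap K Ω from c.comp_algebraMap,
          ← Polynomial.aeval_def, Polynomial.aeval_algHom_apply, minpoly.aeval, map_zero])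
    exact ⟨v, hv⟩
  let e₀ := AlgEquiv.ofInjectiveField c
  exact ⟨(e₀.symm : c.range →ₐ[K] AlgebraicClosure K).comp (σ.codRestrict _ hall),
    AlgHom.ext fun e => congrArg Subtype.val (e₀.apply_symm_apply _)⟩

end Field

theorem geometricallyReduced_of_smooth {X : Scheme.{u}} (f : X ⟶ Spec (CommRingCat.of k)) [Smooth f] :
    GeometricallyReduced f := by
  refine ⟨fun K _ x Z a b hp => ?_⟩
  haveI : Smooth b := MorphismProperty.of_isPullback (P := @Smooth) hp inferInstance
  exact GrpSchLib.isReduced_of_smooth_field b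

variable {A X Y : Over (Spec (CommRingCat.of k))} [GrpObj A] [IsCommMonObj A]
  (a : AlgGrp.Action A X) (f : X ⟶ Y) (hinv : a.act ≫ f = snd A X ≫ f)
  (htors : IsIso (pullback.lift a.act (snd A X) hinv))

/-- The difference of two points of a fibre. -/
def dif {T : Over (Spec (CommRingCat.of k))} (x s : T ⟶ X) (h : x ≫ f = s ≫ f) : T ⟶ A :=
  letI := htors
  pullback.lift x s h ≫ inv (pullback.lift a.act (snd A X) hinv) ≫ fst A X

theorem dif_act {T : Over (Spec (CommRingCat.of k))} (x s : T ⟶ X) (h : x ≫ f = s ≫ f) :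
    lift (dif a f hinv htors x s h) s ≫ a.act = x := by
  letI := htors
  let m := pullback.lift a.act (snd A X) hinv
  let z := pullback.lift x s h ≫ inv m
  have hz : z ≫ m = pullback.lift x s h := by rw [Category.assoc, IsIso.inv_hom_id, Category.comp_id]
  have h1 : z ≫ a.act = x := by
    have := congrArg (· ≫ pullback.fst f f) hz
    simpa [m, Category.assoc] using this
  have h2 : z ≫ snd A X = s := by
    have := congrArg (· ≫ pullback.snd f f) hz
    simpa [m, Category.assoc] using this
  have h3 : lift (dif a f hinv htors x s h) s = z := by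
    apply CartesianMonoidalCategory.hom_ext
    · rw [lift_fst]; exact (Category.assoc _ _ _).symm
    · rw [lift_snd, h2]
  rw [h3, h1]

include hinv htors in
theorem eq_of_act_eq {T : Over (Spec (CommRingCat.of k))} (b b' : T ⟶ A) (s : T ⟶ X)
    (h : lift b s ≫ a.act = lift b' s ≫ a.act) : b = b' := by
  letI := htors
  have h1 : lift b s ≫ pullback.lift a.act (snd A X) hinv = lift b' s ≫ pullback.lift a.act (snd A X) hinv := by
    refine pullback.hom_ext ?_ ?_
    · simpa [Category.assoc] using h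
    · simp [Category.assoc]
  rw [cancel_mono] at h1
  simpa using congrArg (· ≫ fst A X) h1

theorem dif_congr {T : Over (Spec (CommRingCat.of k))} {x x' s s' : T ⟶ X} (h : x ≫ f = s ≫ f)
    (h' : x' ≫ f = s' ≫ f) (e₁ : x = x') (e₂ : s = s') :
    dif a f hinv htors x s h = dif a f hinv htors x' s' h' := by
  subst e₁ e₂; rfl

theorem comp_dif {T T' : Over (Spec (CommRingCat.of k))} (t : T' ⟶ T) (x s : T ⟶ X) (h : x ≫ f = s ≫ f) :
    t ≫ dif a f hinv htors x s h = dif a f hinv htors (t ≫ x) (t ≫ s) (by rw [Category.assoc, h, Category.assoc]) := by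
  refine eq_of_act_eq a f hinv htors _ _ (t ≫ s) ?_
  rw [dif_act, ← comp_lift, Category.assoc, dif_act]

theorem dif_mul {T : Over (Spec (CommRingCat.of k))} (b : T ⟶ A) (x x' s : T ⟶ X) (h : x ≫ f = s ≫ f)
    (h' : x' ≫ f = s ≫ f) (e : lift b x ≫ a.act = x') :
    dif a f hinv htors x' s h' = b * dif a f hinv htors x s h := by
  refine eq_of_act_eq a f hinv htors _ _ s ?_
  rw [dif_act]
  conv_lhs => rw [← e, ← dif_act a f hinv htors x s h]
  have h1 : lift (lift b (dif a f hinv htors x s h)) s ≫ (μ[A] ▷ X) ≫ a.act =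
      lift (lift b (dif a f hinv htors x s h)) s ≫ (α_ A A X).hom ≫ (A ◁ a.act) ≫ a.act := by
    rw [a.mul_act]
  rw [← Category.assoc, lift_whiskerRight, ← Hom.mul_def, ← Category.assoc, ← Category.assoc] at h1
  rw [h1, lift_lift_associator_hom, lift_whiskerLeft]

include hinv htors in
/-- A torsor under an abelian variety maps to it compatibly with a power map. -/
theorem exists_map [IsProper A.hom] [Smooth X.hom] [IsSeparated X.hom] [QuasiCompact X.hom] [IsSeparated Y.hom]
    [GeometricallyIntegral X.hom] [IsIntegral X.left] [IsIntegral (A ⊗ X).left] :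
    ∃ (φ : X ⟶ A) (n : ℕ), 0 < n ∧
      ∀ (T : Over (Spec (CommRingCat.of k))) (b : T ⟶ A) (x : T ⟶ X), lift b x ≫ a.act ≫ φ = (x ≫ φ) * b ^ n := by
  classical
  haveI : LocallyOfFiniteType X.hom := inferInstance
  let F : Type u := X.left.functionField
  let γ₀ : Spec (CommRingCat.of F) ⟶ X.left := X.left.fromSpecStalk (genericPoint X.left)
  let y : Y.left := f.left (genericPoint X.left)
  let K : Type u := Y.left.residueField y
  let yK : Spec (CommRingCat.of K) ⟶ Y.left := Y.left.fromSpecResidueField y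
  obtain ⟨jF, hjF⟩ : ∃ j : CommRingCat.of K ⟶ CommRingCat.of F, Spec.map j ≫ yK = γ₀ ≫ f.left := by
    have hp : (γ₀ ≫ f.left) (IsLocalRing.closedPoint F) = y := by
      rw [Scheme.Hom.comp_apply]
      exact congrArg f.left Scheme.fromSpecStalk_closedPoint
    obtain ⟨⟨p, ψ⟩, hψ⟩ := (Scheme.SpecToEquivOfField F Y.left).symm.surjective (γ₀ ≫ f.left)
    have hψ' : Spec.map ψ ≫ Y.left.fromSpecResidueField p = γ₀ ≫ f.left := hψ
    have hpe : p = y := by
      rw [← hp, ← hψ', Scheme.Hom.comp_apply]
      exact (Scheme.fromSpecResidueField_apply p _).symm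
    subst hpe
    exact ⟨ψ, hψ'⟩
  obtain ⟨E, _, iE, hiE, s₀, hs₀⟩ := exists_fibre_pt f (CommRingCat.of K) (Field.toIsField K) yK
    ⟨genericPoint X.left, fun p => (Scheme.fromSpecResidueField_apply _ p).symm⟩
  letI : Algebra k K := ptAlg (yK ≫ Y.hom)
  letI : Algebra K F := jF.hom.toAlgebra
  letI : Algebra K E := iE.hom.toAlgebra
  letI : Algebra k F := (jF.hom.comp (algebraMap k K)).toAlgebra
  letI : Algebra k E := (iE.hom.comp (algebraMap k K)).toAlgebra
  haveI : IsScalarTower k K F := IsScalarTower.of_algebraMap_eq fun r => rfl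
  haveI : IsScalarTower k K E := IsScalarTower.of_algebraMap_eq fun r => rfl
  haveI : FiniteDimensional K E := hiE
  have hk : Spec.map (CommRingCat.ofHom (algebraMap k K)) = yK ≫ Y.hom := ptAlg_map _
  let γY : Ys (k := k) K ⟶ Y := Over.homMk yK hk.symm
  have hkF : Spec.map (CommRingCat.ofHom (algebraMap k F)) = γ₀ ≫ X.hom := by
    rw [show CommRingCat.ofHom (algebraMap k F) = CommRingCat.ofHom (algebraMap k K) ≫ jF from rfl, Spec.map_comp, hk,
      reassoc_of% hjF, Over.w f]
  let γ : Ys (k := k) F ⟶ X := Over.homMk γ₀ hkF.symm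
  let s : Ys (k := k) E ⟶ X := Over.homMk s₀ (by
    rw [← Over.w f, reassoc_of% hs₀, ← hk, ← Spec.map_comp]
    rfl)
  have hγ : γ ≫ f = ysMap (IsScalarTower.toAlgHom k K F) ≫ γY := Over.OverMorphism.ext hjF.symm
  have hs : s ≫ f = ysMap (IsScalarTower.toAlgHom k K E) ≫ γY := Over.OverMorphism.ext hs₀
  obtain ⟨E', _, _, _, _, _, hbij⟩ := exists_splitting (K := K) (F := F) (E := E)
  letI : Algebra k E' := ((algebraMap F E').comp (algebraMap k F)).toAlgebra
  haveI : IsScalarTower k F E' := IsScalarTower.of_algebraMap_eq fun r => rfl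
  haveI : IsScalarTower k K E' := IsScalarTower.of_algebraMap_eq fun r =>
    (IsScalarTower.algebraMap_apply K F E' (algebraMap k K r)).symm
  have hcmp : ∀ {L : Type u} [Field L] [Algebra k L] [Algebra K L] [IsScalarTower k K L] (τ : F →ₐ[K] L)
      (ρ : E →ₐ[K] L), (ysMap (τ.restrictScalars k) ≫ γ) ≫ f = (ysMap (ρ.restrictScalars k) ≫ s) ≫ f :=
    fun τ ρ => by
      rw [Category.assoc, Category.assoc, hγ, hs, ← Category.assoc, ← Category.assoc, ysMap_comp, ysMap_comp]
      exact congrArg (fun σ => ysMap σ ≫ γY) (AlgHom.ext fun c => (τ.commutes c).trans (ρ.commutes c).symm)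
  let w : Ys (k := k) E' ⟶ A := ∏ ρ : E →ₐ[K] E',
    dif a f hinv htors (ysMap ((IsScalarTower.toAlgHom K F E').restrictScalars k) ≫ γ)
      (ysMap (ρ.restrictScalars k) ≫ s) (hcmp _ _)
  obtain ⟨n, T, hn, hT⟩ := exists_trace (F := F) w
  let Ω₁ := AlgebraicClosure F
  let m := Fintype.card (E' →ₐ[F] Ω₁)
  let r := Fintype.card (E →ₐ[K] AlgebraicClosure K)
  have hm : 0 < m := Fintype.card_pos_iff.2 ⟨IsAlgClosed.lift⟩
  have hr : 0 < r := Fintype.card_pos_iff.2 ⟨IsAlgClosed.lift⟩
  -- the value at an arbitrary geometric generic point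
  have hval : ∀ (Ω : Type u) [Field Ω] [IsAlgClosed Ω] [Algebra k Ω] [Algebra K Ω] [IsScalarTower k K Ω]
      (τ : F →ₐ[K] Ω), ysMap (τ.restrictScalars k) ≫ T =
        (∏ ρ : E →ₐ[K] Ω, dif a f hinv htors (ysMap (τ.restrictScalars k) ≫ γ) (ysMap (ρ.restrictScalars k) ≫ s)
          (hcmp τ ρ)) ^ (m * n) := by
    intro Ω _ _ _ _ _ τ
    letI : Algebra F Ω := τ.toRingHom.toAlgebra
    haveI : IsScalarTower k F Ω := IsScalarTower.of_algebraMap_eq fun r =>
      ((τ.restrictScalars k).commutes r).symm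
    haveI : IsScalarTower K F Ω := IsScalarTower.of_algebraMap_eq fun r => (τ.commutes r).symm
    have hτ : τ.restrictScalars k = IsScalarTower.toAlgHom k F Ω := AlgHom.ext fun c => rfl
    have hcard : Fintype.card (E' →ₐ[F] Ω) = m := card_hom (K := F) (E := E') Ω
    rw [(congrArg (fun σ => ysMap σ ≫ T) hτ).trans (hT Ω), pow_mul]
    congr 1
    rw [Finset.prod_congr rfl (g := fun _ => ∏ ρ : E →ₐ[K] Ω, dif a f hinv htors (ysMap (τ.restrictScalars k) ≫ γ)
      (ysMap (ρ.restrictScalars k) ≫ s) (hcmp τ ρ)) fun σ _ => ?_, Finset.prod_const, Finset.card_univ, hcard]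
    simp only [w, comp_prodU, comp_dif]
    refine Fintype.prod_bijective _ (hbij Ω σ) _ _ fun ρ => dif_congr a f hinv htors _ _ ?_ ?_
    · rw [← Category.assoc, ysMap_comp]
      exact congrArg (fun σ' => ysMap σ' ≫ γ) (AlgHom.ext fun c => σ.commutes c)
    · rw [← Category.assoc, ysMap_comp]
      rfl
  obtain ⟨φ, hφ⟩ := exists_extend (X := X) (G := A) T.left ((Over.w T).trans hkF)
  have hγφ : γ ≫ φ = T := Over.OverMorphism.ext hφ
  refine ⟨φ, r * (m * n), Nat.mul_pos hr (Nat.mul_pos hm hn), fun T' b x => ?_⟩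
  suffices huniv : a.act ≫ φ = (snd A X ≫ φ) * (fst A X) ^ (r * (m * n)) by
    rw [huniv, MonObj.comp_mul, MonObj.comp_pow, lift_fst, lift_snd_assoc]
  haveI : IsSeparated A.hom := inferInstance
  refine ext_gen ?_
  let Z := A ⊗ X
  let L : Type u := Z.left.functionField
  let Ω := AlgebraicClosure L
  let δ₀ : Spec (CommRingCat.of Ω) ⟶ Z.left :=
    Spec.map (CommRingCat.ofHom (algebraMap L Ω)) ≫ Z.left.fromSpecStalk (genericPoint Z.left)
  letI : Algebra k Ω := ptAlg (δ₀ ≫ Z.hom)
  let δ : Ys (k := k) Ω ⟶ Z := Over.homMk δ₀ (ptAlg_map _).symm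
  have hδp : ∀ p, δ₀ p = genericPoint Z.left := fun p => by
    rw [Scheme.Hom.comp_apply]
    exact (congrArg (Z.left.fromSpecStalk (genericPoint Z.left))
      (Subsingleton.elim (α := PrimeSpectrum L) _ (IsLocalRing.closedPoint L))).trans Scheme.fromSpecStalk_closedPoint
  have hsec : ∀ g : Z ⟶ X, (η[A] ▷ X) ≫ g = (λ_ X).hom → Surjective g.left := fun g hg => by
    haveI : IsIso (λ_ X).hom.left := ((Over.forget _).mapIso (λ_ X)).isIso_hom
    haveI : Surjective ((η[A] ▷ X).left ≫ g.left) := by rw [← Over.comp_left, hg]; infer_instance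
    exact Surjective.of_comp (η[A] ▷ X).left g.left
  have hfac : ∀ g : Z ⟶ X, Surjective g.left → ∃ τ : F →ₐ[k] Ω, δ ≫ g = ysMap τ ≫ γ := by
    intro g hg
    obtain ⟨⟨p, ψ⟩, hψ⟩ := (Scheme.SpecToEquivOfField Ω X.left).symm.surjective (δ₀ ≫ g.left)
    have hψ' : Spec.map ψ ≫ X.left.fromSpecResidueField p = δ₀ ≫ g.left := hψ
    have hpe : p = genericPoint X.left := by
      rw [← AVSplitLib.map_genericPoint g.left, ← hδp (IsLocalRing.closedPoint Ω), ← Scheme.Hom.comp_apply, ← hψ',
        Scheme.Hom.comp_apply]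
      exact (Scheme.fromSpecResidueField_apply p _).symm
    subst hpe
    let τ₀ : CommRingCat.of F ⟶ CommRingCat.of Ω := X.left.residue (genericPoint X.left) ≫ ψ
    have hτ : Spec.map τ₀ ≫ γ₀ = δ₀ ≫ g.left := by
      rw [← hψ', Scheme.fromSpecResidueField, Spec.map_comp, Category.assoc]
    have h2 : CommRingCat.ofHom (algebraMap k F) ≫ τ₀ = CommRingCat.ofHom (algebraMap k Ω) := by
      apply Spec.map_injective
      rw [Spec.map_comp, hkF, reassoc_of% hτ, Over.w g]
      exact (ptAlg_map _).symm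
    exact ⟨{ τ₀.hom with commutes' := fun c => congr($(congrArg CommRingCat.Hom.hom h2) c) },
      Over.OverMorphism.ext hτ.symm⟩
  obtain ⟨τ₁, hτ₁⟩ := hfac (snd A X) (hsec _ ((whiskerRight_snd _ _).trans (leftUnitor_hom X).symm))
  obtain ⟨τ₂, hτ₂⟩ := hfac a.act (hsec _ a.one_act)
  letI : Algebra K Ω := (τ₁.comp (IsScalarTower.toAlgHom k K F)).toRingHom.toAlgebra
  haveI : IsScalarTower k K Ω := IsScalarTower.of_algebraMap_eq fun c =>
    ((τ₁.comp (IsScalarTower.toAlgHom k K F)).commutes c).symm
  have h12 : τ₂.comp (IsScalarTower.toAlgHom k K F) = τ₁.comp (IsScalarTower.toAlgHom k K F) := by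
    have h1 : ysMap (τ₂.comp (IsScalarTower.toAlgHom k K F)) ≫ γY = ysMap (τ₁.comp (IsScalarTower.toAlgHom k K F)) ≫ γY := by
      rw [← ysMap_comp, ← ysMap_comp, Category.assoc, Category.assoc, ← hγ, ← reassoc_of% hτ₁, ← reassoc_of% hτ₂, hinv]
    haveI : Mono γY := Over.mono_of_mono_left _
    have h2 := congrArg CommaMorphism.left ((cancel_mono γY).mp h1)
    exact AlgHom.coe_ringHom_injective (congrArg CommRingCat.Hom.hom (Spec.map_injective h2))
  let t₁ : F →ₐ[K] Ω := { τ₁.toRingHom with commutes' := fun c => rfl }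
  let t₂ : F →ₐ[K] Ω := { τ₂.toRingHom with commutes' := fun c => congr($h12 c) }
  have key : δ ≫ a.act ≫ φ = δ ≫ ((snd A X ≫ φ) * (fst A X) ^ (r * (m * n))) := by
    rw [MonObj.comp_mul, MonObj.comp_pow, ← Category.assoc, ← Category.assoc, hτ₁, hτ₂, Category.assoc, Category.assoc,
      hγφ, show ysMap τ₁ = ysMap (t₁.restrictScalars k) from rfl, show ysMap τ₂ = ysMap (t₂.restrictScalars k) from rfl,
      hval Ω t₁, hval Ω t₂, pow_mul (δ ≫ fst A X) r (m * n), ← mul_pow]
    congr 1
    rw [show r = Fintype.card (E →ₐ[K] Ω) from (card_hom (K := K) (E := E) Ω).symm, ← Finset.card_univ, ← Finset.prod_const, ← Finset.prod_mul_distrib]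
    refine Finset.prod_congr rfl fun ρ _ => ?_
    rw [mul_comm]
    refine dif_mul a f hinv htors _ _ _ _ (hcmp t₁ ρ) (hcmp t₂ ρ) ?_
    show lift _ (ysMap τ₁ ≫ γ) ≫ a.act = ysMap τ₂ ≫ γ
    rw [← hτ₁, ← hτ₂, ← comp_lift, lift_fst_snd, Category.comp_id]
  have key' := congrArg CommaMorphism.left key
  haveI : Epi (Spec.map (CommRingCat.ofHom (algebraMap L Ω))) := by
    haveI : Surjective (Spec.map (CommRingCat.ofHom (algebraMap L Ω))) :=
      ⟨fun y => ⟨IsLocalRing.closedPoint Ω, Subsingleton.elim (α := PrimeSpectrum L) _ y⟩⟩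
    haveI : Flat (Spec.map (CommRingCat.ofHom (algebraMap L Ω))) := by
      rw [HasRingHomProperty.Spec_iff (P := @Flat)]
      exact RingHom.flat_algebraMap_iff.mpr inferInstance
    exact Flat.epi_of_flat_of_surjective _
  exact (cancel_epi (Spec.map (CommRingCat.ofHom (algebraMap L Ω)))).1 (by
    simpa only [Category.assoc, δ, δ₀, Over.comp_left, Over.homMk_left] using key')

end Groth.Agent.Chevalley.TorsorNorm
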